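import Cfsg.Agent.H465.IF.BBraid

/-!
# The Baby Monster: the centraliser of a product of order three of two transpositions (helper465)

`cent_three` : if `|C(t e)| ≤ 3 |C(t, e)|` then `C(t e) = ⟨t e⟩ C(t, e)`.
-/

set_option autoImplicit false
set_option linter.unusedSectionVars false

namespace Cfsg.Agent.H465.IF.BCentThree

open Subgroup

/-- abstract form -/
theorem split {Γ : Type*} [Group Γ] [Finite Γ] {f : Γ} {X : Subgroup Γ} (h3 : f ^ 3 = 1)
    (hX : ∀ x ∈ X, x * f = f * x) (hf : f ∉ X)
    (hb : Nat.card (centralizer ({f} : Set Γ)) ≤ 3 * Nat.card X) {h : Γ} (hh : h * f = f * h) :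
    ∃ i : ℕ, i < 3 ∧ ∃ k ∈ X, h = f ^ i * k := by
  classical
  let φ : Fin 3 × X → centralizer ({f} : Set Γ) := fun p => ⟨f ^ (p.1 : ℕ) * p.2, by
    rw [mem_centralizer_singleton_iff, mul_assoc, hX _ p.2.2, ← mul_assoc, ← mul_assoc, ← pow_succ, ← pow_succ']⟩
  have hinj : Function.Injective φ := by
    rintro ⟨i, x⟩ ⟨j, y⟩ hxy
    have h1 : f ^ (i : ℕ) * x = f ^ (j : ℕ) * y := congrArg Subtype.val hxy
    have key : ∀ (i j : Fin 3) (x y : X), f ^ (i : ℕ) * (x : Γ) = f ^ (j : ℕ) * y → (i : ℕ) < j → False := by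
      intro i j x y h1 hij
      have h2 : (x : Γ) = f ^ ((j : ℕ) - i) * y := by
        have h4 : f ^ (j : ℕ) = f ^ (i : ℕ) * f ^ ((j : ℕ) - i) := by rw [← pow_add]; congr 1; omega
        rw [h4, mul_assoc] at h1
        exact mul_left_cancel h1
      have h5 : f ^ ((j : ℕ) - i) ∈ X := by
        have : f ^ ((j : ℕ) - i) = x * (y : Γ)⁻¹ := by rw [h2]; group
        rw [this]
        exact X.mul_mem x.2 (X.inv_mem y.2)
      have h6 : (j : ℕ) - i = 1 ∨ (j : ℕ) - i = 2 := by omega
      rcases h6 with h6 | h6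
      · rw [h6, pow_one] at h5
        exact hf h5
      · rw [h6] at h5
        have h7 := X.mul_mem h5 h5
        rw [← pow_add, show 2 + 2 = 3 + 1 from rfl, pow_succ, h3, one_mul] at h7
        exact hf h7
    have hij : i = j := by
      rcases lt_trichotomy (i : ℕ) j with h2 | h2 | h2
      · exact (key i j x y h1 h2).elim
      · exact Fin.ext h2
      · exact (key j i y x h1.symm h2).elim
    subst hij
    exact Prod.ext rfl (Subtype.ext (mul_left_cancel h1))
  have hc : Nat.card (Fin 3 × X) = 3 * Nat.card X := by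
    rw [Nat.card_prod, Nat.card_eq_fintype_card, Fintype.card_fin]
  have hbij : Function.Bijective φ :=
    (Nat.bijective_iff_injective_and_card φ).2 ⟨hinj, le_antisymm (Nat.card_le_card_of_injective φ hinj)
      (by rw [hc]; exact hb)⟩
  obtain ⟨⟨i, x⟩, hix⟩ := hbij.2 ⟨h, mem_centralizer_singleton_iff.2 hh⟩
  exact ⟨i, i.2, x, x.2, (congrArg Subtype.val hix).symm⟩

open Cfsg.Agent.H465.Gen
open Cfsg.Agent.BabyM.Inst (M)

/-- **The centraliser of a product of order three of two transpositions.** -/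
theorem cent_three {t e : M.G} (ht : IsConj BDisp.t₀ t) (he : IsConj BDisp.t₀ e) (hne : t ≠ e)
    (h3 : (t * e) ^ 3 = 1) (hb : Nat.card (centralizer ({t * e} : Set M.G)) ≤ 387370509926400) :
    t * e ∉ centralizer ({t, e} : Set M.G) ∧
    ∀ h : M.G, h * (t * e) = t * e * h → ∃ i : ℕ, i < 3 ∧ ∃ k ∈ centralizer ({t, e} : Set M.G), h = (t * e) ^ i * k := by
  have : Finite M.G := BabyM.Instance.all.finite_G
  have sq : ∀ {x : M.G}, IsConj BDisp.t₀ x → x * x = 1 := by
    intro x hx
    obtain ⟨y, rfl⟩ := isConj_iff.1 hx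
    calc y * BDisp.t₀ * y⁻¹ * (y * BDisp.t₀ * y⁻¹) = y * (BDisp.t₀ * BDisp.t₀) * y⁻¹ := by group
      _ = 1 := by rw [BDisp.t₀_sq]; group
  have hnm : t * e ∉ centralizer ({t, e} : Set M.G) := by
    intro h
    have h1 : t * (t * e) = t * e * t := h t (by simp)
    have h2 : e = t * e * t := by rw [← h1, ← mul_assoc, sq ht, one_mul]
    have h4 : t * e = e * t := by
      calc t * e = t * (t * e * t) := by rw [← h2]
        _ = (t * t) * e * t := by simp only [mul_assoc]
        _ = e * t := by rw [sq ht, one_mul]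
    have h5 : (t * e) ^ 2 = 1 := by
      rw [pow_two]
      calc t * e * (t * e) = t * (e * t) * e := by simp only [mul_assoc]
        _ = (t * t) * (e * e) := by rw [← h4]; simp only [mul_assoc]
        _ = 1 := by rw [sq ht, sq he, one_mul]
    have h6 : t * e = 1 := by
      rw [pow_succ, h5, one_mul] at h3
      exact h3
    apply hne
    calc t = t * (e * e) := by rw [sq he, mul_one]
      _ = (t * e) * e := by simp only [mul_assoc]
      _ = e := by rw [h6, one_mul]
  refine ⟨hnm, fun h hh => split h3 ?_ hnm ?_ hh⟩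
  · intro x hx
    have h1 : t * x = x * t := hx t (by simp)
    have h2 : e * x = x * e := hx e (by simp)
    calc x * (t * e) = (x * t) * e := by simp only [mul_assoc]
      _ = t * (x * e) := by rw [← h1]; simp only [mul_assoc]
      _ = t * e * x := by rw [← h2]; simp only [mul_assoc]
  · rw [BBraid.card_of_three ht he hne h3]
    exact hb

end Cfsg.Agent.H465.IF.BCentThree
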