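import Cfsg.Agent.H465.IF.BRowOf
import Cfsg.Agent.H465.IF.BExM
import Cfsg.Agent.H502.IF.BQ
import Cfsg.Agent.H861.IF.BClsB
import Cfsg.Agent.BabyU.F8Inner

/-!
# S5719: the row of the Baby Monster (helper465; parts: helper502, helper861, helper956, helper293)

`A` of even order contains an involution `u`.  If `u` is not conjugate into `2.²E₆(2)`, it is a product of two commuting
transpositions, and `A` contains an involution conjugate into `2.²E₆(2)` (`exists_M`); the latter is conjugate into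
`Q = 2^(1+22)` (`conj_pp`), so `A` contains an element of the class `2A` or `2B` (`of_mem`): `row_of`.
-/

set_option autoImplicit false
set_option linter.unusedSectionVars false

namespace Cfsg.Agent.H465.IF.BRow

open Subgroup
open Cfsg.Agent.BabyM.Inst (M)
open Cfsg.Agent.BabyU.ClosModel (tt zz MM PP)
open Cfsg.Agent.H465.Gen
open Cfsg.Agent.H209.Fxy

theorem exists_AB : BRowOf.AB := by
  rintro A Γ h ⟨u, hu, ho⟩
  have hu2 : u * u = 1 := by
    rw [← pow_two, ← ho]
    exact pow_orderOf_eq_one u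
  have hu1 : u ≠ 1 := by
    rintro rfl
    rw [orderOf_one] at ho
    exact absurd ho (by norm_num)
  obtain ⟨v, hv, hv1, hv2, g, hg⟩ : ∃ v ∈ A, v ≠ 1 ∧ v * v = 1 ∧ ∃ g, g * v * g⁻¹ ∈ MM M := by
    rcases BabyU.F8Inner.inner.classes u (mem_top _) hu2 hu1 with ⟨k, -, hk⟩ | ⟨d, hd, hc, he⟩
    · exact ⟨u, hu, hu1, hu2, k⁻¹, by rw [inv_inv]; exact hk⟩
    · have hdd : d * d = 1 := by
        obtain ⟨k, -, hk⟩ := hd
        change k * BDisp.t₀ * k⁻¹ = d at hk
        rw [← hk]
        calc k * BDisp.t₀ * k⁻¹ * (k * BDisp.t₀ * k⁻¹) = k * (BDisp.t₀ * BDisp.t₀) * k⁻¹ := by group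
          _ = 1 := by rw [BDisp.t₀_sq]; group
      have e1 : u * d * d = u := by rw [mul_assoc, hdd, mul_one]
      refine BExM.exists_M h (t := u * d) (e := d) he hd ?_ ?_ ?_
      · rw [e1, ← mul_assoc, ← hc, e1]
      · intro e
        exact hu1 (mul_eq_right.1 e)
      · rw [e1]
        exact hu
  obtain ⟨k, hk⟩ := H861.IFB.conj_pp (u := g * v * g⁻¹) (by
    calc g * v * g⁻¹ * (g * v * g⁻¹) = g * (v * v) * g⁻¹ := by group
      _ = 1 := by rw [hv2]; group) hg
  refine H502.IFB.Q.of_mem h hv hv1 (k * g) ?_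
  have e2 : k * g * v * (k * g)⁻¹ = k * (g * v * g⁻¹) * k⁻¹ := by group
  rw [e2]
  exact hk

/-- no `IF` in the model of the Baby Monster -/
theorem kill_model : Kill M.G := BRowOf.kill_model exists_AB

/-- **The row of the Baby Monster.** -/
theorem row_b : Row fun T => Spor.IsoB T := BRowOf.row_of exists_AB

end Cfsg.Agent.H465.IF.BRow
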