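import Cfsg.Agent.H465.IF.BPair

/-!
# The Baby Monster: centralisers of braid pairs of transpositions (helper465)

`braid_card` : for conjugates `t ≠ e` of `t₀` with `t e t = e t e`, `|C(t) ∩ C(e)| = 129123503308800`.
-/

set_option autoImplicit false
set_option linter.unusedSectionVars false

namespace Cfsg.Agent.H465.IF.BBraid

open Subgroup
open Cfsg.Agent.H465.Gen Cfsg.Agent.H465.Gen.BAbs Cfsg.Agent.H465.IF.BPair
open Cfsg.Agent.BabyM.Inst (M)

/-- **braid pairs** -/
theorem braid_card {t e : M.G} (ht : IsConj BDisp.t₀ t) (he : IsConj BDisp.t₀ e) (hne : t ≠ e)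
    (h : t * e * t = e * t * e) :
    Nat.card ↥(centralizer ({t} : Set M.G) ⊓ centralizer ({e} : Set M.G)) = 129123503308800 := by
  obtain ⟨p, rfl⟩ := exists_point ht
  obtain ⟨q, rfl⟩ := exists_point he
  have h1 := card_stab BDisp.ts p q
  rw [stab_eq BDisp.ts, BDisp.ts.braid_col (fun e => hne (by rw [e])) h] at h1
  change Nat.card _ * (13571955000 * 2370830336) = _ at h1
  omega

/-- the same for the centraliser of the pair -/
theorem braid_card' {t e : M.G} (ht : IsConj BDisp.t₀ t) (he : IsConj BDisp.t₀ e) (hne : t ≠ e)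
    (h : t * e * t = e * t * e) : Nat.card (centralizer ({t, e} : Set M.G)) = 129123503308800 := by
  rw [← braid_card ht he hne h]
  congr 2
  ext x
  rw [mem_inf, mem_centralizer_iff, mem_centralizer_singleton_iff, mem_centralizer_singleton_iff]
  constructor
  · intro h
    exact ⟨(h t (by simp)).symm, (h e (by simp)).symm⟩
  · rintro ⟨h1, h2⟩ y hy
    rcases hy with rfl | hy
    · exact h1.symm
    · rw [Set.mem_singleton_iff] at hy
      rw [hy]
      exact h2.symm

/-- the same for a product of order three -/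
theorem card_of_three {t e : M.G} (ht : IsConj BDisp.t₀ t) (he : IsConj BDisp.t₀ e) (hne : t ≠ e)
    (h : (t * e) ^ 3 = 1) : Nat.card (centralizer ({t, e} : Set M.G)) = 129123503308800 := by
  refine braid_card' ht he hne ?_
  have sq : ∀ {x : M.G}, IsConj BDisp.t₀ x → x * x = 1 := by
    intro x hx
    obtain ⟨y, rfl⟩ := isConj_iff.1 hx
    calc y * BDisp.t₀ * y⁻¹ * (y * BDisp.t₀ * y⁻¹) = y * (BDisp.t₀ * BDisp.t₀) * y⁻¹ := by group
      _ = 1 := by rw [BDisp.t₀_sq]; group
  have h1 : t * e * t * (e * t * e) = 1 := by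
    rw [← h, pow_succ, pow_two]
    simp only [mul_assoc]
  have h2 : (e * t * e) * (e * t * e) = 1 := by
    calc (e * t * e) * (e * t * e) = e * t * (e * e) * t * e := by simp only [mul_assoc]
      _ = e * (t * t) * e := by rw [sq he, mul_one]; simp only [mul_assoc]
      _ = 1 := by rw [sq ht, mul_one, sq he]
  exact mul_right_cancel (h1.trans h2.symm)

end Cfsg.Agent.H465.IF.BBraid
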