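import Cfsg.Agent.H465.Gen.BDisp
import Cfsg.Agent.H465.Gen.BAbsTwo

/-!
# S5719, the Baby Monster: pairs of commuting transpositions (helper465)

`pair_card` : for commuting conjugates `t ≠ e` of `t₀`, the order of `C(t) ∩ C(e)` is `|B| / (13571955000 k)` with
`k = 3968055` or `23113728`.
-/

set_option autoImplicit false
set_option linter.unusedSectionVars false

namespace Cfsg.Agent.H465.IF.BPair

open Subgroup
open Cfsg.Agent.H816.IMEig Cfsg.Agent.H816.IMEig.Col
open Cfsg.Agent.H465.Gen Cfsg.Agent.H465.Gen.BAbs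

section Abs

variable {Γ X : Type} [Group Γ] [MulAction Γ X] {c : X → X → Fin 5} {τ : X → Γ} (S : TS c τ)
include S

/-- the stabiliser of two points -/
theorem card_stab (p q : X) : Nat.card (MulAction.stabilizer Γ (p, q)) * (13571955000 * kv (c p q)) =
    4154781481226426191177580544000000 := by
  classical
  have := S.finG
  have := S.finX
  have ho : MulAction.orbit Γ (p, q) = {r : X × X | c r.1 r.2 = c p q} := by
    ext r
    constructor
    · rintro ⟨g, rfl⟩
      exact S.col.inv g p q
    · intro hr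
      obtain ⟨g, h1, h2⟩ := S.col.tr p q r.1 r.2 (Eq.symm hr)
      exact ⟨g, Prod.ext h1 h2⟩
  have h3 := Subgroup.card_mul_index (MulAction.stabilizer Γ (p, q))
  rw [MulAction.index_stabilizer, ho, S.card, ← Nat.card_coe_set_eq] at h3
  have h4 : Nat.card {r : X × X | c r.1 r.2 = c p q} = 13571955000 * kv (c p q) := by
    have h5 := S.col.card_pairs p (c p q)
    rw [S.cardX] at h5
    have h6 : kk c p (c p q) = kv (c p q) := S.kk_eq p (c p q)
    rw [h6] at h5
    exact h5
  rw [h4] at h3
  exact h3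

theorem stab_eq (p q : X) : MulAction.stabilizer Γ (p, q) =
    centralizer ({τ p} : Set Γ) ⊓ centralizer ({τ q} : Set Γ) := by
  ext g
  rw [MulAction.mem_stabilizer_iff, mem_inf, mem_centralizer_singleton_iff, mem_centralizer_singleton_iff,
    ← S.comm_iff, ← S.comm_iff]
  constructor
  · intro h
    exact ⟨congrArg Prod.fst h, congrArg Prod.snd h⟩
  · rintro ⟨h1, h2⟩
    exact Prod.ext h1 h2

/-- the colour of a commuting pair -/
theorem comm_col {p q : X} (hne : p ≠ q) (h : τ p * τ q = τ q * τ p) : c p q = 1 ∨ c p q = 2 := by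
  have h0 : τ p • q = q := S.fix _ _ h
  obtain ⟨-, -, -, c3, c4⟩ := S.colours p q
  rw [h0, S.col.self] at c3 c4
  obtain ⟨u, hu⟩ : ∃ u, c p q = u := ⟨_, rfl⟩
  fin_cases u
  · exact absurd ((S.col.diag _ _).1 hu) hne
  · exact Or.inl hu
  · exact Or.inr hu
  · exact absurd (c3 hu) (by decide)
  · exact absurd (c4 hu) (by decide)

theorem pair_card_abs {p q : X} (hne : p ≠ q) (h : τ p * τ q = τ q * τ p) :
    Nat.card ↥(centralizer ({τ p} : Set Γ) ⊓ centralizer ({τ q} : Set Γ)) * (13571955000 * 3968055) =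
      4154781481226426191177580544000000 ∨
    Nat.card ↥(centralizer ({τ p} : Set Γ) ⊓ centralizer ({τ q} : Set Γ)) * (13571955000 * 23113728) =
      4154781481226426191177580544000000 := by
  have h1 := card_stab S p q
  rw [stab_eq S] at h1
  rcases comm_col S hne h with h2 | h2
  · left
    rw [h2] at h1
    exact h1
  · right
    rw [h2] at h1
    exact h1

end Abs

open Cfsg.Agent.BabyM.Inst Cfsg.Agent.BabyM.Model Cfsg.Agent.H995.BSch Cfsg.Agent.H995.BSchVal
open Cfsg.Agent.H465.Gen.BDisp

/-- a conjugate of `t₀` is the transposition of a point -/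
theorem exists_point {t : M.G} (ht : IsConj BDisp.t₀ t) : ∃ p : Cfsg.Agent.H995.BSch.X M, t = τ p := by
  obtain ⟨g, hg⟩ := isConj_iff.1 ht
  exact ⟨QuotientGroup.mk g, by rw [τ_mk, hg]⟩

/-- **commuting pairs of transpositions** -/
theorem pair_card {t e : M.G} (ht : IsConj BDisp.t₀ t) (he : IsConj BDisp.t₀ e) (hne : t ≠ e) (h : t * e = e * t) :
    Nat.card ↥(centralizer ({t} : Set M.G) ⊓ centralizer ({e} : Set M.G)) * (13571955000 * 3968055) =
      4154781481226426191177580544000000 ∨
    Nat.card ↥(centralizer ({t} : Set M.G) ⊓ centralizer ({e} : Set M.G)) * (13571955000 * 23113728) =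
      4154781481226426191177580544000000 := by
  obtain ⟨p, rfl⟩ := exists_point ht
  obtain ⟨q, rfl⟩ := exists_point he
  exact pair_card_abs ts (fun e => hne (by rw [e])) h

/-- the same with one number -/
theorem pair_card' {t e : M.G} (ht : IsConj BDisp.t₀ t) (he : IsConj BDisp.t₀ e) (hne : t ≠ e) (h : t * e = e * t) :
    ∃ k : ℕ, (k = 3968055 ∨ k = 23113728) ∧
    Nat.card ↥(centralizer ({t} : Set M.G) ⊓ centralizer ({e} : Set M.G)) * (13571955000 * k) =
      4154781481226426191177580544000000 := by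
  rcases pair_card ht he hne h with h | h
  · exact ⟨_, Or.inl rfl, h⟩
  · exact ⟨_, Or.inr rfl, h⟩

end Cfsg.Agent.H465.IF.BPair
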