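import Cfsg.Agent.H465.IF.BOne
import Cfsg.Agent.H956.IF.BB
import Cfsg.Agent.H209.IF.Kill
import Cfsg.Agent.CpAut.TwoInnerB
import Cfsg.Agent.BM.KHAll

/-!
# S5719, the Baby Monster: the row from `exists_AB` (helper465)

`row_of` : no `IF A Γ` in the Baby Monster, if each `A` of even order contains a `2A` or a `2B` element.
-/

set_option autoImplicit false
set_option linter.unusedSectionVars false

namespace Cfsg.Agent.H465.IF.BRowOf

open Subgroup
open Cfsg.Agent.BabyM.Inst (M)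
open Cfsg.Agent.BabyU.ClosModel (tt zz)
open Cfsg.Agent.H465.Gen
open Cfsg.Agent.H209.Fxy

/-- all automorphisms are inner -/
theorem inner_model (σ : MulAut M.G) : ∃ g, MulAut.conj g = σ := by
  obtain ⟨g, hg⟩ := CpAut.TwoInner.inner_b (MulAut.congr BM.KHAll.iso.symm σ)
  refine ⟨BM.KHAll.iso g, ?_⟩
  ext1 x
  have h1 := congr_apply' BM.KHAll.iso.symm σ (BM.KHAll.iso.symm x)
  rw [hg, MulEquiv.symm_symm, MulAut.conj_apply, map_mul, map_mul, map_inv, MulEquiv.apply_symm_apply] at h1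
  exact h1

/-- the hypothesis: even order implies an element of the class `2A` or `2B` -/
def AB : Prop := ∀ (A : Subgroup M.G) (Γ : Subgroup (MulAut M.G)), IF A Γ → (∃ u ∈ A, orderOf u = 2) →
  (∃ a ∈ A, IsConj (tt BabyM.Instance.all) a) ∨ (∃ a ∈ A, IsConj (zz BabyM.Instance.all) a)

theorem kill_model (h3 : AB) : Kill M.G := by
  intro A Γ h
  have hfin := BOne.finG
  have hsim := BabyM.Instance.all.simple
  obtain ⟨σ, hσ, h2, -⟩ := h.ex
  obtain ⟨a, rfl⟩ := inner_model σ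
  rw [H999.IFB.orderOf_conj BOne.hna] at h2
  have haA : a ∈ A := (h.conj a).1 hσ
  rcases h3 A Γ h ⟨a, haA, h2⟩ with ⟨u, hu, hc⟩ | ⟨u, hu, hc⟩
  · exact BOne.no_2A h hu hc
  · exact H956.IF.BB.kill_conj h hc hu

/-- **the row of the Baby Monster** -/
theorem row_of (h3 : AB) : Row fun T => Spor.IsoB T := by
  rintro T _ _ _ - ⟨e⟩ A Γ hA
  exact Kill.congr (e.trans BM.KHAll.iso).symm (kill_model h3) A Γ hA

end Cfsg.Agent.H465.IF.BRowOf
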